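import Groth.Agent.HensPair.StalkLocal
import Groth.Agent.UnramArtinLift.Basic
import Mathlib

/-!
Unramified near a point from uniqueness of local square-zero lifts (no Noetherian hypotheses).
-/

set_option autoImplicit false
universe u

namespace Groth.Agent.Unram17SmallLifts

open AlgebraicGeometry CategoryTheory

variable {X Y : Scheme.{u}} (f : X ⟶ Y)

/-- Stalk-to-open spreading, finite type version without Noetherian hypotheses. -/
theorem exists_opens_of_stalk [LocallyOfFiniteType f] (x : X)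
    {P : MorphismProperty Scheme.{u}} {Q : ∀ {R S : Type u} [CommRing R] [CommRing S], (R →+* S) → Prop}
    [HasRingHomProperty P Q] {R' : ∀ {R S : Type u} [CommRing R] [CommRing S], (R →+* S) → Prop}
    (hQ : ∀ (A B S : Type u) [CommRing A] [CommRing B] [CommRing S] [Algebra A B] [Algebra B S]
      [Algebra A S] [IsScalarTower A B S] [Algebra.FiniteType A B]
      (q : Ideal B) [q.IsPrime] [IsLocalization.AtPrime S q], R' (algebraMap A S) →
      ∃ g ∉ q, Q (algebraMap A (Localization.Away g)))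
    (hR : ∀ (V : Y.Opens) (_ : IsAffineOpen V) (hy : f x ∈ V),
      R' (Y.presheaf.germ V (f x) hy ≫ f.stalkMap x).hom) :
    ∃ (V : Y.Opens) (W : X.Opens) (e : W ≤ f ⁻¹ᵁ V), x ∈ W ∧ P (f.resLE V W e) := by
  obtain ⟨_, ⟨V : Y.Opens, hV, rfl⟩, hxV, -⟩ :=
    Y.isBasis_affineOpens.exists_subset_of_mem_open (Set.mem_univ (f x)) isOpen_univ
  obtain ⟨_, ⟨U : X.Opens, hU, rfl⟩, hxU, hle⟩ :=
    X.isBasis_affineOpens.exists_subset_of_mem_open (show x ∈ f ⁻¹ᵁ V from hxV) (f ⁻¹ᵁ V).2
  have e : U ≤ f ⁻¹ᵁ V := hle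
  let := (f.appLE V U e).hom.toAlgebra
  have : Algebra.FiniteType Γ(Y, V) Γ(X, U) := f.finiteType_appLE hV hU e
  let q := (hU.primeIdealOf ⟨x, hxU⟩).asIdeal
  let := X.presheaf.algebra_section_stalk (⟨x, hxU⟩ : U)
  have : IsLocalization.AtPrime (X.presheaf.stalk x) q := hU.isLocalization_stalk ⟨x, hxU⟩
  let : Algebra Γ(Y, V) (X.presheaf.stalk x) := (Y.presheaf.germ V (f x) hxV ≫ f.stalkMap x).hom.toAlgebra
  have : IsScalarTower Γ(Y, V) Γ(X, U) (X.presheaf.stalk x) := .of_algebraMap_eq' (by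
    show (Y.presheaf.germ V (f x) hxV ≫ f.stalkMap x).hom = (f.appLE V U e ≫ X.presheaf.germ U x hxU).hom
    rw [Scheme.Hom.germ_stalkMap, Scheme.Hom.appLE, Category.assoc, TopCat.Presheaf.germ_res])
  obtain ⟨g, hg, hQg⟩ := hQ Γ(Y, V) Γ(X, U) (X.presheaf.stalk x) q (hR V hV hxV)
  have hxg : x ∈ X.basicOpen g := by
    have h3 : hU.primeIdealOf ⟨x, hxU⟩ ∈ PrimeSpectrum.basicOpen g := hg
    rw [← hU.fromSpec_preimage_basicOpen g] at h3
    change hU.fromSpec (hU.primeIdealOf ⟨x, hxU⟩) ∈ X.basicOpen g at h3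
    rwa [hU.fromSpec_primeIdealOf] at h3
  have eg : X.basicOpen g ≤ f ⁻¹ᵁ V := (X.basicOpen_le g).trans e
  have := hU.isLocalization_basicOpen g
  have hres : RingHom.RespectsIso Q := (HasRingHomProperty.isLocal_ringHomProperty P).respectsIso
  have hQW : Q (f.appLE V (X.basicOpen g) eg).hom := by
    let e₁ := IsLocalization.algEquiv (.powers g) (Localization.Away g) Γ(X, X.basicOpen g)
    have h1 := hres.1 (algebraMap Γ(Y, V) (Localization.Away g)) e₁.toRingEquiv hQg
    convert h1
    rw [IsScalarTower.algebraMap_eq Γ(Y, V) Γ(X, U) (Localization.Away g), ← RingHom.comp_assoc]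
    rw [show e₁.toRingEquiv.toRingHom.comp
      (algebraMap Γ(X, U) (Localization.Away g)) = algebraMap Γ(X, U) Γ(X, X.basicOpen g) from
      RingHom.ext e₁.commutes]
    exact (congrArg CommRingCat.Hom.hom (f.appLE_map e (homOfLE (X.basicOpen_le g)).op)).symm
  refine ⟨V, X.basicOpen g, eg, hxg, ?_⟩
  have : IsAffine V := hV
  have : IsAffine (X.basicOpen g) := hU.basicOpen g
  rw [HasRingHomProperty.iff_of_isAffine (P := P),
    show (f.resLE V (X.basicOpen g) eg).appTop = V.topIso.hom ≫ f.appLE V (X.basicOpen g) eg ≫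
      (X.basicOpen g).topIso.inv from Scheme.Hom.resLE_app_top f eg,
    CommRingCat.hom_comp, hres.cancel_left_isIso, CommRingCat.hom_comp, hres.cancel_right_isIso]
  exact hQW


/-- A derivation killed by uniqueness of lifts to trivial square-zero extensions. -/
theorem formallyUnramified_of_unique (A C : Type u) [CommRing A] [CommRing C] [Algebra A C]
    (h : ∀ (M : Type u) [AddCommGroup M] [Module C M] [Module Cᵐᵒᵖ M] [IsCentralScalar C M]
      (ψ₁ ψ₂ : C →+* TrivSqZeroExt C M),
      (TrivSqZeroExt.fstHom C C M).toRingHom.comp ψ₁ = RingHom.id C →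
      (TrivSqZeroExt.fstHom C C M).toRingHom.comp ψ₂ = RingHom.id C →
      ψ₁.comp (algebraMap A C) = ψ₂.comp (algebraMap A C) → ψ₁ = ψ₂) :
    Algebra.FormallyUnramified A C := by
  let M := Ω[C⁄A]
  let D := KaehlerDifferential.D A C
  letI : Module Cᵐᵒᵖ M := Module.compHom _ ((RingHom.id C).fromOpposite mul_comm)
  haveI : IsCentralScalar C M := ⟨fun _ _ => rfl⟩
  let ψ₂ : C →+* TrivSqZeroExt C M :=
    { toFun := fun c => TrivSqZeroExt.inl c + TrivSqZeroExt.inr (D c)
      map_one' := by simp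
      map_mul' := fun a b => by
        ext <;> simp [op_smul_eq_smul, add_comm]
      map_zero' := by simp
      map_add' := fun a b => by ext <;> simp }
  have hD : ∀ c, D c = 0 := fun c => by
    have := h M (TrivSqZeroExt.inlHom C M) ψ₂ (RingHom.ext fun a => by simp)
      (RingHom.ext fun a => by simp [ψ₂]) (RingHom.ext fun a => by simp [ψ₂, D])
    simpa [ψ₂] using (congr_arg TrivSqZeroExt.snd (RingHom.congr_fun this c)).symm
  refine ⟨⟨fun x y => ?_⟩⟩
  suffices ∀ z : Ω[C⁄A], z = 0 by rw [this x, this y]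
  intro z
  have hz : z ∈ Submodule.span C (Set.range (KaehlerDifferential.D A C)) := by
    rw [KaehlerDifferential.span_range_derivation]; trivial
  induction hz using Submodule.span_induction with
  | mem _ hw => obtain ⟨c, rfl⟩ := hw; exact hD c
  | zero => rfl
  | add _ _ _ _ ha hb => rw [ha, hb, add_zero]
  | smul r _ _ ha => rw [ha, smul_zero]

end Groth.Agent.Unram17SmallLifts
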